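import Groth.Prelude.Def_RelSpec2
import Groth.Agent.Lib.ModM1.Coh
import Groth.Agent.Lib.ModM1.Stalk

/-!
The direct image along an affine morphism, on quasi-coherent modules, as modules over the direct image algebra.
-/

set_option autoImplicit false

universe u

open CategoryTheory CategoryTheory.Limits AlgebraicGeometry TopologicalSpace Opposite

namespace Groth.Agent.DirImg11

open Groth.Agent.M1

variable {X S : Scheme.{u}} (f : X ⟶ S) [IsAffineHom f]

instance toOS_faithful (B : RelSpec.QCAlg S) : (AMod.toOS B).Faithful := by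
  refine ⟨fun {M N} a b h => ?_⟩
  ext U m
  exact congrArg (fun ψ : (AMod.toOS B).obj M ⟶ (AMod.toOS B).obj N => ψ.val.app U m) h

/-- The preimages of affine opens cover. -/
theorem exists_affine_preimage (x : X) : ∃ U : S.Opens, IsAffineOpen U ∧ x ∈ f ⁻¹ᵁ U := by
  obtain ⟨U, hU, hxU, -⟩ := Opens.isBasis_iff_nbhd.1 S.isBasis_affineOpens (Opens.mem_top (f x))
  exact ⟨U, hU, hxU⟩

/-- The basic opens of the preimages of affine opens form a basis, below any affine neighbourhood. -/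
theorem exists_small {x : X} {V : X.Opens} (hx : x ∈ V) {U₀ : S.Opens} (hx₀ : x ∈ f ⁻¹ᵁ U₀) :
    ∃ (U : S.Opens) (_ : IsAffineOpen U) (r : Γ(X, f ⁻¹ᵁ U)),
      U ≤ U₀ ∧ x ∈ X.basicOpen r ∧ X.basicOpen r ≤ V := by
  obtain ⟨U, hU, hxU, hUU₀⟩ := Opens.isBasis_iff_nbhd.1 S.isBasis_affineOpens (show f x ∈ U₀ from hx₀)
  obtain ⟨r, hr, hxr⟩ := (hU.preimage f).exists_basicOpen_le (V := V) ⟨x, hx⟩ hxU
  exact ⟨U, hU, r, hUU₀, hxr, hr⟩

variable {f}

theorem epi_pushforward_map {F G : X.Modules} (hF : Coh.IsQCoh F) (hG : Coh.IsQCoh G) (v : F ⟶ G) [Epi v] :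
    Epi ((Scheme.Modules.pushforward f).map v) := by
  refine (M1.epi_iff_locally_surjective _).2 fun U t x hx => ?_
  obtain ⟨W, hW, hxW, hWU⟩ := Opens.isBasis_iff_nbhd.1 S.isBasis_affineOpens hx
  obtain ⟨t', ht'⟩ := app_surjective_affine_of_isQCoh hF hG v (hW.preimage f)
    (mres G ((Opens.map f.base).map (homOfLE hWU)).le t)
  exact ⟨W, hWU, hxW, t', ht'⟩

/-- The component of a homomorphism of direct images. -/
noncomputable def comp {F G : X.Modules} (φ : (AMod.dirImg f).obj F ⟶ (AMod.dirImg f).obj G) (U : S.Opens) :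
    Γ(F, f ⁻¹ᵁ U) →ₗ[Γ(X, f ⁻¹ᵁ U)] Γ(G, f ⁻¹ᵁ U) where
  toFun t := φ.val.app (op U) t
  map_add' a b := (φ.val.app (op U)).hom.map_add a b
  map_smul' a t := (φ.val.app (op U)).hom.map_smul a t

theorem comp_res {F G : X.Modules} (φ : (AMod.dirImg f).obj F ⟶ (AMod.dirImg f).obj G) {U U' : S.Opens}
    (h : U' ≤ U) (t : Γ(F, f ⁻¹ᵁ U)) :
    comp φ U' (mres F (fun _ hx => h hx : f ⁻¹ᵁ U' ≤ f ⁻¹ᵁ U) t) =
      mres G (fun _ hx => h hx : f ⁻¹ᵁ U' ≤ f ⁻¹ᵁ U) (comp φ U t) :=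
  PresheafOfModules.naturality_apply φ.val (homOfLE h).op t

theorem comp_map {F G : X.Modules} (v : F ⟶ G) (U : S.Opens) (t : Γ(F, f ⁻¹ᵁ U)) :
    comp ((AMod.dirImg f).map v) U t = v.app (f ⁻¹ᵁ U) t := rfl

variable {F G : X.Modules} (φ : (AMod.dirImg f).obj F ⟶ (AMod.dirImg f).obj G)

/-- `ρ` is the image of `s` under the morphism induced by `φ`. -/
def Cor (V : X.Opens) (s : Γ(F, V)) (ρ : Γ(G, V)) : Prop :=
  ∀ (U : S.Opens) (_ : IsAffineOpen U) (r : Γ(X, f ⁻¹ᵁ U)) (hle : X.basicOpen r ≤ V) (K : ℕ) (t : Γ(F, f ⁻¹ᵁ U)),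
    mres F (X.basicOpen_le r) t = ores (X.basicOpen_le r) r ^ K • mres F hle s →
      mres G (X.basicOpen_le r) (comp φ U t) = ores (X.basicOpen_le r) r ^ K • mres G hle ρ

theorem isUnit_ores {U : X.Opens} (r : Γ(X, U)) : IsUnit (ores (X.basicOpen_le r) r) :=
  RingedSpace.isUnit_res_basicOpen _ r

variable (hF : Coh.IsQCoh F)

include hF in
theorem cor_unique {V : X.Opens} {s : Γ(F, V)} {ρ ρ' : Γ(G, V)} (h : Cor φ V s ρ) (h' : Cor φ V s ρ') : ρ = ρ' := by
  haveI := hF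
  choose U₀ hU₀ hx₀ using fun x : V => exists_affine_preimage f x.1
  choose U hU r hUU hxr hrV using fun x : V => exists_small f x.2 (hx₀ x)
  refine modules_eq_of_locally_eq G V (fun x => X.basicOpen (r x)) hrV
    (fun x hx => Opens.mem_iSup.2 ⟨⟨x, hx⟩, hxr ⟨x, hx⟩⟩) _ _ fun x => ?_
  obtain ⟨K, t, ht⟩ := exists_pow_smul_eq_res_affine F ((hU x).preimage f) (r x) (mres F (hrV x) s)
  exact ((isUnit_ores (r x)).pow K).smul_left_cancel.1
    ((h _ (hU x) (r x) (hrV x) K t ht).symm.trans (h' _ (hU x) (r x) (hrV x) K t ht))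

/-- The defining equation descends to smaller basic opens. -/
theorem cor_small [Fact (Coh.IsQCoh F)] {V : X.Opens} {s : Γ(F, V)} {U : S.Opens} {r : Γ(X, f ⁻¹ᵁ U)}
    (hle : X.basicOpen r ≤ V) {K : ℕ} {t : Γ(F, f ⁻¹ᵁ U)}
    (ht : mres F (X.basicOpen_le r) t = ores (X.basicOpen_le r) r ^ K • mres F hle s) {ρ : Γ(G, X.basicOpen r)}
    (hρ : mres G (X.basicOpen_le r) (comp φ U t) = ores (X.basicOpen_le r) r ^ K • ρ)
    {U' : S.Opens} (hU' : IsAffineOpen U') (hUU' : U' ≤ U) {r' : Γ(X, f ⁻¹ᵁ U')}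
    (hle' : X.basicOpen r' ≤ X.basicOpen r) {L : ℕ} {t' : Γ(F, f ⁻¹ᵁ U')}
    (ht' : mres F (X.basicOpen_le r') t' = ores (X.basicOpen_le r') r' ^ L • mres F (hle'.trans hle) s) :
    mres G (X.basicOpen_le r') (comp φ U' t') = ores (X.basicOpen_le r') r' ^ L • mres G hle' ρ := by
  haveI : Coh.IsQCoh F := Fact.out
  have hu : f ⁻¹ᵁ U' ≤ f ⁻¹ᵁ U := fun _ hx => hUU' hx
  let w := ores hu r
  have h1 := congrArg (mres F hle') ht
  rw [mres_smul, map_pow, ores_ores, mres_mres, mres_mres] at h1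
  have h2 : mres F (X.basicOpen_le r') (r' ^ L • mres F hu t - w ^ K • t') = 0 := by
    rw [map_sub, mres_smul, mres_smul, map_pow, map_pow, mres_mres, ores_ores, ht', h1, smul_smul, smul_smul,
      mul_comm, sub_self]
  obtain ⟨M, hM⟩ := exists_pow_smul_eq_zero_affine F (hU'.preimage f) r' _ h2
  have h3 := congrArg (comp φ U') hM
  rw [map_zero, map_smul, map_sub, map_smul, map_smul, comp_res φ hUU'] at h3
  have h4 := congrArg (mres G (X.basicOpen_le r')) h3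
  rw [map_zero, mres_smul, map_sub, mres_smul, mres_smul, map_pow, map_pow, map_pow, mres_mres, ores_ores] at h4
  have h5 := congrArg (mres G hle') hρ
  rw [mres_smul, map_pow, ores_ores, mres_mres] at h5
  rw [((isUnit_ores r').pow M).smul_eq_zero, sub_eq_zero, h5, smul_comm] at h4
  refine (IsUnit.smul_left_cancel (IsUnit.pow K ?_)).1 h4.symm
  have := (isUnit_ores r).map (ores hle').hom
  rwa [show (ores hle').hom (ores (X.basicOpen_le r) r) = ores _ r from ores_ores _ _ r] at this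

/-- `ρ` is the image of `s` on one basic open. -/
def IsImg {V : X.Opens} (s : Γ(F, V)) (U : S.Opens) (r : Γ(X, f ⁻¹ᵁ U)) (hle : X.basicOpen r ≤ V)
    (ρ : Γ(G, X.basicOpen r)) : Prop :=
  ∀ (K : ℕ) (t : Γ(F, f ⁻¹ᵁ U)),
    mres F (X.basicOpen_le r) t = ores (X.basicOpen_le r) r ^ K • mres F hle s →
      mres G (X.basicOpen_le r) (comp φ U t) = ores (X.basicOpen_le r) r ^ K • ρ

include hF in
theorem exists_isImg {V : X.Opens} (s : Γ(F, V)) {U : S.Opens} (hU : IsAffineOpen U) (r : Γ(X, f ⁻¹ᵁ U))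
    (hle : X.basicOpen r ≤ V) : ∃ ρ : Γ(G, X.basicOpen r), IsImg φ s U r hle ρ := by
  haveI := hF
  haveI : Fact (Coh.IsQCoh F) := ⟨hF⟩
  obtain ⟨K, t, ht⟩ := exists_pow_smul_eq_res_affine F (hU.preimage f) r (mres F hle s)
  obtain ⟨v, hv⟩ := ((isUnit_ores r).pow K).exists_right_inv
  have hρ : mres G (X.basicOpen_le r) (comp φ U t) =
      ores (X.basicOpen_le r) r ^ K • (v • mres G (X.basicOpen_le r) (comp φ U t)) := by
    rw [smul_smul, hv, one_smul]
  refine ⟨v • mres G (X.basicOpen_le r) (comp φ U t), fun K' t' ht' => (cor_small φ hle ht hρ hU le_rfl le_rfl ht').trans ?_⟩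
  rw [mres_id]

include hF in
theorem isImg_agree {V : X.Opens} {s : Γ(F, V)} {U : S.Opens} (hU : IsAffineOpen U) {r : Γ(X, f ⁻¹ᵁ U)}
    {hle : X.basicOpen r ≤ V} {ρ : Γ(G, X.basicOpen r)} (h : IsImg φ s U r hle ρ)
    {U' : S.Opens} (hU' : IsAffineOpen U') (hUU' : U' ≤ U) {r' : Γ(X, f ⁻¹ᵁ U')}
    (hle' : X.basicOpen r' ≤ X.basicOpen r) {ρ' : Γ(G, X.basicOpen r')}
    (h' : IsImg φ s U' r' (hle'.trans hle) ρ') : mres G hle' ρ = ρ' := by
  haveI := hF
  haveI : Fact (Coh.IsQCoh F) := ⟨hF⟩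
  obtain ⟨K, t, ht⟩ := exists_pow_smul_eq_res_affine F (hU.preimage f) r (mres F hle s)
  obtain ⟨L, t', ht'⟩ := exists_pow_smul_eq_res_affine F (hU'.preimage f) r' (mres F (hle'.trans hle) s)
  exact ((isUnit_ores r').pow L).smul_left_cancel.1
    ((cor_small φ hle ht (h K t ht) hU' hUU' hle' ht').symm.trans (h' L t' ht'))

/-- The small opens. -/
abbrev Idx (f : X ⟶ S) (V : X.Opens) : Type u :=
  {q : Σ U : S.Opens, Γ(X, f ⁻¹ᵁ U) // IsAffineOpen q.1 ∧ X.basicOpen q.2 ≤ V}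

include hF in
theorem exists_cor (V : X.Opens) (s : Γ(F, V)) : ∃ ρ : Γ(G, V), Cor φ V s ρ := by
  choose ρ hρ using fun q : Idx f V => exists_isImg φ hF s q.2.1 q.1.2 q.2.2
  have hcov : V ≤ ⨆ q : Idx f V, X.basicOpen q.1.2 := fun x hx => by
    obtain ⟨U₀, hU₀, hx₀⟩ := exists_affine_preimage f x
    obtain ⟨U, hU, r, -, hxr, hrV⟩ := exists_small f hx hx₀
    exact Opens.mem_iSup.2 ⟨⟨⟨U, r⟩, hU, hrV⟩, hxr⟩
  have hpair : ∀ p q : Idx f V,
      mres G (inf_le_left : X.basicOpen p.1.2 ⊓ X.basicOpen q.1.2 ≤ X.basicOpen p.1.2) (ρ p) =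
        mres G (inf_le_right : X.basicOpen p.1.2 ⊓ X.basicOpen q.1.2 ≤ X.basicOpen q.1.2) (ρ q) := fun p q => by
    choose U hU r hUU hxr hrV using fun x : (X.basicOpen p.1.2 ⊓ X.basicOpen q.1.2 : X.Opens) =>
      exists_small f (V := X.basicOpen p.1.2 ⊓ X.basicOpen q.1.2) x.2 (U₀ := p.1.1 ⊓ q.1.1)
        (show x.1 ∈ f ⁻¹ᵁ (p.1.1 ⊓ q.1.1) from ⟨X.basicOpen_le _ x.2.1, X.basicOpen_le _ x.2.2⟩)
    refine modules_eq_of_locally_eq G _ (fun x => X.basicOpen (r x)) hrV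
      (fun x hx => Opens.mem_iSup.2 ⟨⟨x, hx⟩, hxr ⟨x, hx⟩⟩) _ _ fun x => ?_
    obtain ⟨ρ', hρ'⟩ := exists_isImg φ hF s (hU x) (r x) (((hrV x).trans inf_le_left).trans p.2.2)
    rw [mres_mres, mres_mres,
      isImg_agree φ hF p.2.1 (hρ p) (hU x) ((hUU x).trans inf_le_left) ((hrV x).trans inf_le_left) hρ',
      isImg_agree φ hF q.2.1 (hρ q) (hU x) ((hUU x).trans inf_le_right) ((hrV x).trans inf_le_right) hρ']
  obtain ⟨ρV, hρV, -⟩ := TopCat.Sheaf.existsUnique_gluing' ⟨G.presheaf, G.isSheaf⟩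
    (fun q : Idx f V => X.basicOpen q.1.2) V (fun q => homOfLE q.2.2) hcov ρ hpair
  refine ⟨ρV, fun U hU r hle K t' ht' => ?_⟩
  rw [show mres G hle ρV = ρ ⟨⟨U, r⟩, hU, hle⟩ from hρV ⟨⟨U, r⟩, hU, hle⟩]
  exact hρ ⟨⟨U, r⟩, hU, hle⟩ K t' ht'

include hF in
theorem cor_add {V : X.Opens} {a b : Γ(F, V)} {ρa ρb : Γ(G, V)} (ha : Cor φ V a ρa) (hb : Cor φ V b ρb) :
    Cor φ V (a + b) (ρa + ρb) := by
  intro U hU r hle K t ht
  haveI := hF
  obtain ⟨Ka, ta, hta⟩ := exists_pow_smul_eq_res_affine F (hU.preimage f) r (mres F hle a)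
  obtain ⟨Kb, tb, htb⟩ := exists_pow_smul_eq_res_affine F (hU.preimage f) r (mres F hle b)
  have h0 : mres F (X.basicOpen_le r) (r ^ (Ka + Kb) • t - (r ^ (K + Kb) • ta + r ^ (K + Ka) • tb)) = 0 := by
    rw [map_sub, map_add, mres_smul, mres_smul, mres_smul, map_pow, map_pow, map_pow, ht, hta, htb,
      map_add, smul_smul, smul_smul, smul_smul, ← pow_add, ← pow_add, ← pow_add, smul_add, sub_eq_zero]
    congr 1 <;> congr 2 <;> omega
  obtain ⟨M, hM⟩ := exists_pow_smul_eq_zero_affine F (hU.preimage f) r _ h0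
  have h1 := congrArg (fun z => mres G (X.basicOpen_le r) (comp φ U z)) hM
  simp only [map_zero, map_smul, map_sub, map_add, mres_smul, map_pow] at h1
  rw [((isUnit_ores r).pow M).smul_eq_zero, sub_eq_zero, ha U hU r hle Ka ta hta, hb U hU r hle Kb tb htb,
    smul_smul, smul_smul, ← pow_add, ← pow_add] at h1
  refine ((isUnit_ores r).pow (Ka + Kb)).smul_left_cancel.1 (h1.trans ?_)
  rw [map_add, smul_smul, ← pow_add, smul_add]
  congr 1 <;> congr 2 <;> omega

include hF in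
theorem cor_smul {V : X.Opens} (c : Γ(X, V)) {s : Γ(F, V)} {ρ : Γ(G, V)} (h : Cor φ V s ρ) :
    Cor φ V (c • s) (c • ρ) := by
  intro U hU r hle K t ht
  haveI := hF
  obtain ⟨L, ts, hts⟩ := exists_pow_smul_eq_res_affine F (hU.preimage f) r (mres F hle s)
  obtain ⟨P, c', hc'⟩ : ∃ (P : ℕ) (c' : Γ(X, f ⁻¹ᵁ U)),
      ores (X.basicOpen_le r) c' = ores (X.basicOpen_le r) r ^ P * ores hle c := by
    letI := (X.presheaf.map (homOfLE (X.basicOpen_le r)).op).hom.toAlgebra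
    haveI := (hU.preimage f).isLocalization_basicOpen r
    obtain ⟨⟨c', p, P, rfl⟩, hc⟩ := IsLocalization.surj (Submonoid.powers r) (ores hle c)
    refine ⟨P, c', ?_⟩
    rw [mul_comm, ← map_pow]
    exact hc.symm
  have h0 : mres F (X.basicOpen_le r) (r ^ (P + L) • t - (r ^ K * c') • ts) = 0 := by
    rw [map_sub, mres_smul, mres_smul, map_mul, map_pow, map_pow, ht, hts, hc', mres_smul,
      smul_smul, smul_smul, smul_smul, sub_eq_zero]
    congr 1; ring
  obtain ⟨M, hM⟩ := exists_pow_smul_eq_zero_affine F (hU.preimage f) r _ h0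
  have h1 := congrArg (fun z => mres G (X.basicOpen_le r) (comp φ U z)) hM
  simp only [map_zero, map_smul, map_sub, mres_smul, map_pow, map_mul] at h1
  rw [((isUnit_ores r).pow M).smul_eq_zero, sub_eq_zero, h U hU r hle L ts hts, hc'] at h1
  refine ((isUnit_ores r).pow (P + L)).smul_left_cancel.1 (h1.trans ?_)
  rw [mres_smul, smul_smul, smul_smul, smul_smul]
  congr 1; ring

theorem cor_res {V V' : X.Opens} (h' : V' ≤ V) {s : Γ(F, V)} {ρ : Γ(G, V)} (h : Cor φ V s ρ) :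
    Cor φ V' (mres F h' s) (mres G h' ρ) := by
  intro U hU r hle K t ht
  rw [mres_mres] at ht ⊢
  exact h U hU r (hle.trans h') K t ht

/-- The morphism induced by a homomorphism of direct images. -/
noncomputable def lift : F ⟶ G :=
  ⟨PresheafOfModules.homMk
    { app := fun V => AddCommGrpCat.ofHom (AddMonoidHom.mk' (fun s : Γ(F, V.unop) => (exists_cor φ hF V.unop s).choose)
        fun a b => cor_unique φ hF (exists_cor φ hF V.unop (a + b)).choose_spec
          (cor_add φ hF (exists_cor φ hF V.unop a).choose_spec (exists_cor φ hF V.unop b).choose_spec))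
      naturality := fun V V' g => by
        ext s
        exact cor_unique φ hF (exists_cor φ hF _ _).choose_spec
          (cor_res φ (leOfHom g.unop) (exists_cor φ hF V.unop s).choose_spec) }
    fun V c s => cor_unique φ hF (exists_cor φ hF _ _).choose_spec
      (cor_smul φ hF c (exists_cor φ hF V.unop s).choose_spec)⟩

theorem bijective_map (F G : X.Modules) (hF : Coh.IsQCoh F) :
    Function.Bijective ((AMod.dirImg f).map : (F ⟶ G) → ((AMod.dirImg f).obj F ⟶ (AMod.dirImg f).obj G)) := by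
  refine ⟨fun v w e => ?_, fun φ => ⟨lift φ hF, ?_⟩⟩
  · ext V s
    have hc : ∀ u : F ⟶ G, Cor ((AMod.dirImg f).map u) V s (u.app V s) := fun u U hU r hle K t ht => by
      rw [comp_map, ← app_mres, ht, Scheme.Modules.Hom.app_smul, app_mres]
    exact cor_unique ((AMod.dirImg f).map v) hF (hc v) (by rw [e]; exact hc w)
  · ext U t
    refine cor_unique φ hF (exists_cor φ hF (f ⁻¹ᵁ U.unop) t).choose_spec fun U' hU' r hle K t' ht' => ?_
    haveI := hF
    haveI : Fact (Coh.IsQCoh F) := ⟨hF⟩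
    choose W hW r' hWU hxr hrV using fun x : X.basicOpen r =>
      exists_small f (V := X.basicOpen r) x.2 (U₀ := U' ⊓ U.unop)
        (show x.1 ∈ f ⁻¹ᵁ (U' ⊓ U.unop) from ⟨X.basicOpen_le _ x.2, hle x.2⟩)
    refine modules_eq_of_locally_eq G _ (fun x => X.basicOpen (r' x)) hrV
      (fun x hx => Opens.mem_iSup.2 ⟨⟨x, hx⟩, hxr ⟨x, hx⟩⟩) _ _ fun x => ?_
    let hWU' : f ⁻¹ᵁ W x ≤ f ⁻¹ᵁ U' := fun _ hy => (hWU x hy).1
    let hWU'' : f ⁻¹ᵁ W x ≤ f ⁻¹ᵁ U.unop := fun _ hy => (hWU x hy).2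
    have h0 : mres F (X.basicOpen_le (r' x)) (mres F hWU' t' - ores hWU' r ^ K • mres F hWU'' t) = 0 := by
      have := congrArg (mres F (hrV x)) ht'
      rw [mres_smul, map_pow, ores_ores, mres_mres, mres_mres] at this
      rw [map_sub, mres_smul, map_pow, ores_ores, mres_mres, mres_mres, this, sub_self]
    obtain ⟨M, hM⟩ := exists_pow_smul_eq_zero_affine F ((hW x).preimage f) (r' x) _ h0
    have h1 := congrArg (fun z => mres G (X.basicOpen_le (r' x)) (comp φ (W x) z)) hM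
    simp only [map_zero, map_smul, map_sub, mres_smul, map_pow] at h1
    rw [((isUnit_ores (r' x)).pow M).smul_eq_zero, sub_eq_zero, comp_res φ (fun _ hy => (hWU x hy).1),
      comp_res φ (fun _ hy => (hWU x hy).2), mres_mres, mres_mres, ores_ores] at h1
    rw [mres_mres, mres_smul, map_pow, ores_ores, mres_mres]
    exact h1

end Groth.Agent.DirImg11
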