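import Groth.Agent.Lib.DirImg11.Basic
import Groth.Agent.Lib.CohFound.Colim
import Groth.Agent.Lib.CohFound.ModulesInst
import Mathlib.CategoryTheory.Limits.Preserves.Shapes.Products

/-!
The direct image along a quasi-compact quasi-separated morphism and colimits.
-/

set_option autoImplicit false

universe u

open CategoryTheory CategoryTheory.Limits AlgebraicGeometry TopologicalSpace Opposite

namespace Groth.Agent.DirImg11

open Groth.Agent.M1

section Rep

variable {X : TopCat.{u}} {ι : Type u} {F : ι → CohTop.Ab X} {c : Cofan F} (hc : IsColimit c)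

open CohFound in
include hc in
/-- A section of a coproduct of sheaves is locally a finite sum. -/
theorem exists_local_sum {U : Opens X} (s : c.pt.obj.obj (op U)) {x : X} (hx : x ∈ U) :
    ∃ (V : Opens X) (hV : V ≤ U) (P : Finset ι) (t : ∀ i, (F i).obj.obj (op V)), x ∈ V ∧
      c.pt.obj.map (homOfLE hV).op s = ∑ i ∈ P, (c.inj i).hom.app (op V) (t i) := by
  classical
  let H : AddSubgroup ((stalkF x).obj c.pt) := ⨆ i, ((stalkF x).map (c.inj i)).hom.range
  haveI : H.Normal := ⟨fun a ha g => by rwa [add_comm g a, add_neg_cancel_right]⟩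
  have hz : AddCommGrpCat.ofHom (QuotientAddGroup.mk' H) = 0 :=
    (isColimitOfPreserves (stalkF x) hc).hom_ext fun ⟨i⟩ => by
      rw [comp_zero]
      ext a
      exact (QuotientAddGroup.eq_zero_iff (N := H) _).2
        ((le_iSup (fun i => ((stalkF x).map (c.inj i)).hom.range) i) ⟨a, rfl⟩)
  have hmem : TopCat.Presheaf.germ c.pt.obj U x hx s ∈ H :=
    (QuotientAddGroup.eq_zero_iff (N := H) _).1 (ConcreteCategory.congr_hom hz _)
  suffices ∀ g ∈ H, ∃ (V : Opens X) (hxV : x ∈ V) (P : Finset ι) (t : ∀ i, (F i).obj.obj (op V)),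
      TopCat.Presheaf.germ c.pt.obj V x hxV (∑ i ∈ P, (c.inj i).hom.app (op V) (t i)) = g by
    obtain ⟨V, hxV, P, t, ht⟩ := this _ hmem
    obtain ⟨W, hxW, iV, iU, e⟩ := TopCat.Presheaf.germ_eq c.pt.obj x hxV hx _ _ ht
    refine ⟨W, leOfHom iU, P, fun i => (F i).obj.map iV.op (t i), hxW, e.symm.trans ?_⟩
    rw [map_sum]
    exact Finset.sum_congr rfl fun i _ => (NatTrans.naturality_apply (c.inj i).hom iV.op (t i)).symm
  intro g hg
  induction hg using AddSubgroup.iSup_induction' with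
  | hp i g hg =>
    obtain ⟨a, rfl⟩ := hg
    obtain ⟨W, hxW, a', rfl⟩ := TopCat.Presheaf.exists_germ_eq (F i).obj a
    refine ⟨W, hxW, {i}, Function.update (fun _ => 0) i a', ?_⟩
    rw [Finset.sum_singleton, Function.update_self]
    exact (TopCat.Presheaf.stalkFunctor_map_germ_apply W x hxW (c.inj i).hom a').symm
  | h1 => exact ⟨U, hx, ∅, fun _ => 0, by rw [Finset.sum_empty]; exact map_zero _⟩
  | hadd g₁ g₂ _ _ h₁ h₂ =>
    obtain ⟨V₁, hx₁, P₁, t₁, rfl⟩ := h₁
    obtain ⟨V₂, hx₂, P₂, t₂, rfl⟩ := h₂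
    refine ⟨V₁ ⊓ V₂, ⟨hx₁, hx₂⟩, P₁ ∪ P₂, fun i =>
      (if i ∈ P₁ then (F i).obj.map (homOfLE inf_le_left).op (t₁ i) else 0) +
      (if i ∈ P₂ then (F i).obj.map (homOfLE inf_le_right).op (t₂ i) else 0), ?_⟩
    simp only [map_add, Finset.sum_add_distrib]
    rw [← TopCat.Presheaf.germ_res_apply c.pt.obj (homOfLE (inf_le_left : V₁ ⊓ V₂ ≤ V₁)) x ⟨hx₁, hx₂⟩,
      ← TopCat.Presheaf.germ_res_apply c.pt.obj (homOfLE (inf_le_right : V₁ ⊓ V₂ ≤ V₂)) x ⟨hx₁, hx₂⟩]
    congr 1
    · refine congrArg _ ?_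
      rw [map_sum, ← Finset.sum_subset Finset.subset_union_left (fun i _ hi => by rw [if_neg hi, map_zero])]
      exact Finset.sum_congr rfl fun i hi => by rw [if_pos hi]; exact NatTrans.naturality_apply (c.inj i).hom _ _
    · refine congrArg _ ?_
      rw [map_sum, ← Finset.sum_subset Finset.subset_union_right (fun i _ hi => by rw [if_neg hi, map_zero])]
      exact Finset.sum_congr rfl fun i hi => by rw [if_pos hi]; exact NatTrans.naturality_apply (c.inj i).hom _ _

end Rep

variable {X S : Scheme.{u}} (f : X ⟶ S) [QuasiCompact f] [QuasiSeparated f]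

theorem isIso_of_bijective_affine {M N : AMod (RelSpec.QCAlg.directImage f)} (φ : M ⟶ N)
    (h : ∀ U : S.Opens, IsAffineOpen U → Function.Bijective (φ.val.app (op U))) : IsIso φ := by
  let ψ := (AMod.toOS (RelSpec.QCAlg.directImage f)).map φ
  have : IsIso ψ := by
    refine Scheme.Modules.Hom.isIso_iff_isIso_app.2 fun V => (ConcreteCategory.isIso_iff_bijective _).2 ?_
    have key : ∀ W : S.Opens, Function.Injective (ψ.app W) := fun W a a' e => by
      choose b hb hxb hbW using fun x : W => Opens.isBasis_iff_nbhd.1 S.isBasis_affineOpens x.2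
      refine modules_eq_of_locally_eq _ W b hbW (fun x hx => Opens.mem_iSup.2 ⟨⟨x, hx⟩, hxb ⟨x, hx⟩⟩) a a' fun x => ?_
      apply (h _ (hb x)).1
      show ψ.app _ (mres _ (hbW x) a) = ψ.app _ (mres _ (hbW x) a')
      rw [app_mres, app_mres, e]
    refine ⟨key V, fun s => ?_⟩
    choose b hb hxb hbV using fun x : V => Opens.isBasis_iff_nbhd.1 S.isBasis_affineOpens x.2
    choose m hm using fun x : V => (h _ (hb x)).2 (mres _ (hbV x) s)
    obtain ⟨g, hg, -⟩ := TopCat.Sheaf.existsUnique_gluing' ⟨((AMod.toOS _).obj M).presheaf, ((AMod.toOS _).obj M).isSheaf⟩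
      b V (fun x => homOfLE (hbV x)) (fun x hx => Opens.mem_iSup.2 ⟨⟨x, hx⟩, hxb ⟨x, hx⟩⟩) m fun x y => by
        apply key
        show ψ.app _ (mres _ _ (m x)) = ψ.app _ (mres _ _ (m y))
        rw [app_mres, app_mres, show ψ.app _ (m x) = _ from hm x, show ψ.app _ (m y) = _ from hm y, mres_mres, mres_mres]
    refine ⟨g, modules_eq_of_locally_eq _ V b hbV (fun x hx => Opens.mem_iSup.2 ⟨⟨x, hx⟩, hxb ⟨x, hx⟩⟩) _ _ fun x => ?_⟩
    rw [← app_mres, show mres _ (hbV x) g = m x from hg x]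
    exact hm x
  have : IsIso ((AMod.toOS (RelSpec.QCAlg.directImage f)).map φ) := this
  exact isIso_of_reflects_iso φ (AMod.toOS (RelSpec.QCAlg.directImage f))

theorem compact_preimage {U : S.Opens} (hU : IsAffineOpen U) :
    IsCompact ((f ⁻¹ᵁ U : X.Opens) : Set X) ∧ IsQuasiSeparated ((f ⁻¹ᵁ U : X.Opens) : Set X) :=
  ⟨f.isCompact_preimage hU.isCompact, f.isQuasiSeparated_preimage hU.isQuasiSeparated⟩

theorem isIso_colimit_desc {J : Type u} [SmallCategory J] [IsFiltered J] (D : J ⥤ X.Modules) :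
    IsIso (colimit.desc (D ⋙ AMod.dirImg f) ((AMod.dirImg f).mapCocone (colimit.cocone D))) := by
  let φ := colimit.desc (D ⋙ AMod.dirImg f) ((AMod.dirImg f).mapCocone (colimit.cocone D))
  let E := SheafOfModules.toSheaf (AMod.ringSheaf (RelSpec.QCAlg.directImage f))
  haveI : PreservesColimit (D ⋙ AMod.dirImg f) E :=
    (CohFound.preservesColimitsOfShape_sheafOfModules_toSheaf (AMod.ringSheaf (RelSpec.QCAlg.directImage f)) J).preservesColimit
  haveI : PreservesColimit D (SheafOfModules.toSheaf X.ringCatSheaf) :=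
    (CohFound.preservesColimitsOfShape_sheafOfModules_toSheaf X.ringCatSheaf J).preservesColimit
  have hS := isColimitOfPreserves E (colimit.isColimit (D ⋙ AMod.dirImg f))
  have hX := isColimitOfPreserves (SheafOfModules.toSheaf X.ringCatSheaf) (colimit.isColimit D)
  have hφ : ∀ (j : J) (U : S.Opens) (t : Γ(D.obj j, f ⁻¹ᵁ U)),
      φ.val.app (op U) ((colimit.ι (D ⋙ AMod.dirImg f) j).val.app (op U) t) = (colimit.ι D j).app (f ⁻¹ᵁ U) t :=
    fun j U t => congrArg (fun χ : (AMod.dirImg f).obj (D.obj j) ⟶ (AMod.dirImg f).obj (colimit D) => χ.val.app (op U) t)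
      (colimit.ι_desc ((AMod.dirImg f).mapCocone (colimit.cocone D)) j)
  refine isIso_of_bijective_affine f φ fun U hU => ⟨(injective_iff_map_eq_zero _).2 fun a ha => ?_, fun s => ?_⟩
  · have hloc : ∀ y : U, ∃ (V : S.Opens) (hV : V ≤ U), y.1 ∈ V ∧
        (colimit (D ⋙ AMod.dirImg f)).val.map (homOfLE hV).op a = 0 := fun y => by
      obtain ⟨j, V, hV, hyV, t, ht⟩ := CohFound.exists_local_rep hS a y.2
      obtain ⟨W, hW, hyW, hWV⟩ := Opens.isBasis_iff_nbhd.1 S.isBasis_affineOpens hyV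
      let t' : Γ(D.obj j, f ⁻¹ᵁ W) := mres (D.obj j) (fun _ hx => hWV hx : f ⁻¹ᵁ W ≤ f ⁻¹ᵁ V) t
      have ht' : (colimit.ι (D ⋙ AMod.dirImg f) j).val.app (op W) t' =
          (colimit (D ⋙ AMod.dirImg f)).val.map (homOfLE (hWV.trans hV)).op a := by
        refine (PresheafOfModules.naturality_apply (colimit.ι (D ⋙ AMod.dirImg f) j).val (homOfLE hWV).op t).trans ?_
        refine (congrArg _ ht).trans ?_
        exact ((colimit (D ⋙ AMod.dirImg f)).val.map_comp_apply (homOfLE hV).op (homOfLE hWV).op a).symm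
      have hz : (colimit.ι D j).app (f ⁻¹ᵁ W) t' = 0 := by
        rw [← hφ j W t', ht', PresheafOfModules.naturality_apply, ha]
        exact map_zero _
      obtain ⟨k, g, hg⟩ := CohFound.exists_zero_of_app hX (compact_preimage f hW).1 t' hz
      refine ⟨W, hWV.trans hV, hyW, ht'.symm.trans ?_⟩
      rw [← colimit.w (D ⋙ AMod.dirImg f) g]
      exact (congrArg ((colimit.ι (D ⋙ AMod.dirImg f) k).val.app (op W)) hg).trans (map_zero _)
    choose V hV hyV hz using hloc
    exact TopCat.Sheaf.eq_of_locally_eq' (E.obj (colimit (D ⋙ AMod.dirImg f))) V U (fun y => homOfLE (hV y))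
      (fun y hy => Opens.mem_iSup.2 ⟨⟨y, hy⟩, hyV ⟨y, hy⟩⟩) a 0 fun y => (hz y).trans (map_zero _).symm
  · obtain ⟨j, t, ht⟩ := CohFound.exists_rep_app hX (compact_preimage f hU).1 (compact_preimage f hU).2 s
    exact ⟨(colimit.ι (D ⋙ AMod.dirImg f) j).val.app (op U) t, (hφ j U t).trans ht⟩

open Classical in
theorem isIso_sigmaComparison {ι : Type u} (F : ι → X.Modules) :
    IsIso (sigmaComparison (AMod.dirImg f) F) := by
  let φ := sigmaComparison (AMod.dirImg f) F
  let E := SheafOfModules.toSheaf (AMod.ringSheaf (RelSpec.QCAlg.directImage f))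
  haveI : PreservesColimitsOfShape (Discrete ι) E :=
    CohFound.preservesColimitsOfShape_sheafOfModules_toSheaf (AMod.ringSheaf (RelSpec.QCAlg.directImage f)) _
  haveI : PreservesColimitsOfShape (Discrete ι) (SheafOfModules.toSheaf X.ringCatSheaf) :=
    CohFound.preservesColimitsOfShape_sheafOfModules_toSheaf X.ringCatSheaf _
  have hS := isColimitCofanMkObjOfIsColimit E _ _ (coproductIsCoproduct fun i => (AMod.dirImg f).obj (F i))
  have hX := isColimitCofanMkObjOfIsColimit (SheafOfModules.toSheaf X.ringCatSheaf) _ _ (coproductIsCoproduct F)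
  let π : ∀ i, (∐ F) ⟶ F i := fun i => Sigma.desc fun j => if h : j = i then eqToHom (congrArg F h) else 0
  have hπ : ∀ (i j : ι) (V : X.Opens) (t : Γ(F j, V)),
      (π i).app V ((Sigma.ι F j).app V t) = if h : j = i then (eqToHom (congrArg F h)).app V t else 0 := by
    intro i j V t
    rw [← comp_app_apply, Sigma.ι_desc]
    split_ifs with h
    · rfl
    · rfl
  have hφ : ∀ (i : ι) (U : S.Opens) (t : Γ(F i, f ⁻¹ᵁ U)),
      φ.val.app (op U) ((Sigma.ι (fun i => (AMod.dirImg f).obj (F i)) i).val.app (op U) t) =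
        (Sigma.ι F i).app (f ⁻¹ᵁ U) t :=
    fun i U t => congrArg (fun χ : (AMod.dirImg f).obj (F i) ⟶ (AMod.dirImg f).obj (∐ F) => χ.val.app (op U) t)
      (ι_comp_sigmaComparison (AMod.dirImg f) F i)
  refine isIso_of_bijective_affine f φ fun U hU => ⟨(injective_iff_map_eq_zero _).2 fun a ha => ?_, fun s => ?_⟩
  · have hloc : ∀ y : U, ∃ (V : S.Opens) (hV : V ≤ U), y.1 ∈ V ∧
        (∐ fun i => (AMod.dirImg f).obj (F i)).val.map (homOfLE hV).op a = 0 := fun y => by
      obtain ⟨V, hV, P, t, hyV, ht⟩ := exists_local_sum hS a y.2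
      refine ⟨V, hV, hyV, ht.trans (Finset.sum_eq_zero fun i hi => ?_)⟩
      have h1 : φ.val.app (op V) ((∐ fun i => (AMod.dirImg f).obj (F i)).val.map (homOfLE hV).op a) = 0 := by
        rw [PresheafOfModules.naturality_apply, ha]
        exact map_zero _
      have h2 : (∑ j ∈ P, (Sigma.ι F j).app (f ⁻¹ᵁ V) (t j) : Γ(∐ F, f ⁻¹ᵁ V)) = 0 := by
        refine Eq.trans ?_ h1
        refine Eq.trans ?_ (congrArg (φ.val.app (op V)) ht).symm
        refine Eq.trans ?_ (map_sum (φ.val.app (op V)).hom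
          (fun j => (Sigma.ι (fun i => (AMod.dirImg f).obj (F i)) j).val.app (op V) (t j)) P).symm
        exact Finset.sum_congr rfl fun j _ => (hφ j V (t j)).symm
      have h3 := congrArg ((π i).app (f ⁻¹ᵁ V)) h2
      rw [map_sum, map_zero, Finset.sum_eq_single i (fun j _ hj => by rw [hπ, dif_neg hj]) (fun h => absurd hi h),
        hπ, dif_pos rfl] at h3
      have h4 : t i = (0 : Γ(F i, f ⁻¹ᵁ V)) := h3
      exact (congrArg _ h4).trans (map_zero _)
    choose V hV hyV hz using hloc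
    exact TopCat.Sheaf.eq_of_locally_eq' (E.obj _) V U (fun y => homOfLE (hV y))
      (fun y hy => Opens.mem_iSup.2 ⟨⟨y, hy⟩, hyV ⟨y, hy⟩⟩) a 0 fun y => (hz y).trans (map_zero _).symm
  · choose V hV P t hxV ht using fun x : (f ⁻¹ᵁ U : X.Opens) => exists_local_sum hX s x.2
    obtain ⟨T, hT⟩ := (compact_preimage f hU).1.elim_finite_subcover (fun x => (V x : Set X)) (fun x => (V x).2)
      fun x hx => Set.mem_iUnion.2 ⟨⟨x, hx⟩, hxV ⟨x, hx⟩⟩
    let Q := T.biUnion P
    refine ⟨∑ i ∈ Q, (Sigma.ι (fun i => (AMod.dirImg f).obj (F i)) i).val.app (op U) ((π i).app (f ⁻¹ᵁ U) s), ?_⟩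
    rw [map_sum]
    refine (Finset.sum_congr rfl fun i _ => hφ i U _).trans ?_
    refine modules_eq_of_locally_eq (∐ F) (f ⁻¹ᵁ U) (fun x : T => V x.1) (fun x => hV x.1)
      (fun x hx => by
        obtain ⟨y, hy, hxy⟩ := Set.mem_iUnion₂.1 (hT hx)
        exact Opens.mem_iSup.2 ⟨⟨y, hy⟩, hxy⟩) _ _ fun x => ?_
    have hs : mres (∐ F) (hV x.1) s = ∑ j ∈ P x.1, (Sigma.ι F j).app (V x.1) (t x.1 j) := ht x.1
    refine (map_sum (mres (∐ F) (hV x.1)).hom (fun i => (Sigma.ι F i).app (f ⁻¹ᵁ U) ((π i).app (f ⁻¹ᵁ U) s)) Q).trans ?_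
    rw [hs, ← Finset.sum_subset (Finset.subset_biUnion_of_mem P x.2) (fun i _ hi => ?_)]
    · refine Finset.sum_congr rfl fun i hi => ?_
      rw [← app_mres, ← app_mres, hs, map_sum,
        Finset.sum_eq_single i (fun j _ hj => by rw [hπ, dif_neg hj]) (fun h => absurd hi h), hπ, dif_pos rfl]
      rfl
    · rw [← app_mres, ← app_mres, hs, map_sum, Finset.sum_eq_zero fun j hj => ?_, map_zero]
      rw [hπ, dif_neg (fun h : j = i => hi (h ▸ hj))]

end Groth.Agent.DirImg11
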