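import Groth.Agent.Lib.DirImg11.Basic
import Groth.Agent.Lib.ModM1.Push
import Groth.Prelude.Def_AffAlg

/-!
Isomorphisms of pairs seen on the direct images.
-/

set_option autoImplicit false

universe u

open CategoryTheory CategoryTheory.Limits AlgebraicGeometry TopologicalSpace Opposite

namespace Groth.Agent.DirImg11

open Groth.Agent.M1

variable {X S : Scheme.{u}} (f : X ⟶ S) [IsAffineHom f]

theorem isIso_of_isIso_pushforward {F G : X.Modules} (hF : Coh.IsQCoh F) (hG : Coh.IsQCoh G) (v : F ⟶ G)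
    (h : IsIso ((Scheme.Modules.pushforward f).map v)) : IsIso v := by
  haveI : IsIso ((AMod.toOS (RelSpec.QCAlg.directImage f)).map ((AMod.dirImg f).map v)) := h
  haveI : IsIso ((AMod.dirImg f).map v) := isIso_of_reflects_iso _ (AMod.toOS (RelSpec.QCAlg.directImage f))
  obtain ⟨w, hw⟩ := (bijective_map (f := f) G F hG).2 (inv ((AMod.dirImg f).map v))
  exact ⟨w, (bijective_map (f := f) F F hF).1 (by simp [hw]), (bijective_map (f := f) G G hG).1 (by simp [hw])⟩

theorem isIso_of_affine_appTop {X Y : Scheme.{u}} (g : X ⟶ Y) [IsAffine X] [IsAffine Y] (h : IsIso g.appTop) :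
    IsIso g := by
  refine ((MorphismProperty.isomorphisms Scheme).arrow_mk_iso_iff (arrowIsoSpecΓOfIsAffine g)).2 ?_
  show IsIso (Spec.map g.appTop)
  infer_instance

theorem isIso_of_isIso_algHom {Y : Scheme.{u}} (g : Y ⟶ S) [IsAffineHom g] (h : Y ⟶ X) (w : h ≫ f = g)
    (ha : IsIso (AffAlg.algHom f g h w)) : IsIso h := by
  subst w
  refine (IsZariskiLocalAtTarget.iff_of_iSup_eq_top (P := MorphismProperty.isomorphisms Scheme)
    (fun U : S.affineOpens => f ⁻¹ᵁ U.1) (top_le_iff.1 fun x _ => ?_)).2 fun U => ?_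
  · obtain ⟨U, hU, hx⟩ := exists_affine_preimage f x
    exact Opens.mem_iSup.2 ⟨⟨U, hU⟩, hx⟩
  · have hY : IsAffineOpen (h ⁻¹ᵁ (f ⁻¹ᵁ U.1)) := U.2.preimage (h ≫ f)
    haveI : IsAffine (h ⁻¹ᵁ (f ⁻¹ᵁ U.1) : Y.Opens) := hY
    haveI : IsAffine (f ⁻¹ᵁ U.1 : X.Opens) := U.2.preimage f
    refine isIso_of_affine_appTop _ ?_
    haveI : IsIso (h.app (f ⁻¹ᵁ U.1)) := by
      have h1 : IsIso ((AffAlg.algHom f (h ≫ f) h rfl).app (op U.1)) := inferInstance
      simp only [AffAlg.algHom, NatTrans.comp_app, isIso_comp_right_iff] at h1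
      exact h1
    have key : ∀ V : X.Opens, V = f ⁻¹ᵁ U.1 → IsIso (h.app V) := by rintro V rfl; assumption
    haveI := key _ (Scheme.Opens.ι_image_top (f ⁻¹ᵁ U.1))
    rw [morphismRestrict_appTop]
    have key2 : ∀ {A B : Y.Opens} (e : A = B), IsIso (Y.presheaf.map (eqToHom e).op) := by
      rintro A B rfl; simp only [eqToHom_refl, op_id, CategoryTheory.Functor.map_id]; infer_instance
    exact @IsIso.comp_isIso _ _ _ _ _ _ _ (key _ (Scheme.Opens.ι_image_top _)) (key2 _)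

theorem isIso_pair_iff {Y : Scheme.{u}} (g : Y ⟶ S) [IsAffineHom g] (h : Y ⟶ X) (w : h ≫ f = g)
    {F : X.Modules} {G : Y.Modules} (hF : Coh.IsQCoh F) (hG : Coh.IsQCoh G)
    (v : F ⟶ (Scheme.Modules.pushforward h).obj G) :
    (IsIso h ∧ IsIso v) ↔ (IsIso (AffAlg.algHom f g h w) ∧ IsIso ((Scheme.Modules.pushforward f).map v)) := by
  constructor
  · rintro ⟨hh, hv⟩
    refine ⟨?_, inferInstance⟩
    have : IsIso h.c := @NatIso.isIso_of_isIso_app _ _ _ _ _ _ h.c fun U => (inferInstanceAs (IsIso (h.app U.unop)))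
    unfold AffAlg.algHom
    infer_instance
  · rintro ⟨ha, hv⟩
    have hh := isIso_of_isIso_algHom f g h w ha
    exact ⟨hh, isIso_of_isIso_pushforward f hF (M1.isQCoh_push h hG) v hv⟩

end Groth.Agent.DirImg11
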